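import Cfsg.Agent.Helper28.F22L.Data

set_option autoImplicit false

namespace Cfsg.Agent.Helper28.F22L

theorem eq_aw_0 : Cfsg.Agent.Helper28.ptChunk (Cfsg.Agent.Helper28.eqPt Cfsg.Agent.Helper28.C1687.T aw_l aw_r) 3510 512 0 = true := by decide +kernel

theorem eq_aw_1 : Cfsg.Agent.Helper28.ptChunk (Cfsg.Agent.Helper28.eqPt Cfsg.Agent.Helper28.C1687.T aw_l aw_r) 3510 512 1 = true := by decide +kernel

theorem eq_aw_2 : Cfsg.Agent.Helper28.ptChunk (Cfsg.Agent.Helper28.eqPt Cfsg.Agent.Helper28.C1687.T aw_l aw_r) 3510 512 2 = true := by decide +kernel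

theorem eq_aw_3 : Cfsg.Agent.Helper28.ptChunk (Cfsg.Agent.Helper28.eqPt Cfsg.Agent.Helper28.C1687.T aw_l aw_r) 3510 512 3 = true := by decide +kernel

theorem eq_aw_4 : Cfsg.Agent.Helper28.ptChunk (Cfsg.Agent.Helper28.eqPt Cfsg.Agent.Helper28.C1687.T aw_l aw_r) 3510 512 4 = true := by decide +kernel

theorem eq_aw_5 : Cfsg.Agent.Helper28.ptChunk (Cfsg.Agent.Helper28.eqPt Cfsg.Agent.Helper28.C1687.T aw_l aw_r) 3510 512 5 = true := by decide +kernel

theorem eq_aw_6 : Cfsg.Agent.Helper28.ptChunk (Cfsg.Agent.Helper28.eqPt Cfsg.Agent.Helper28.C1687.T aw_l aw_r) 3510 512 6 = true := by decide +kernel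

end Cfsg.Agent.Helper28.F22L
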