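import Cfsg.Agent.Helper28.F22L.Data

set_option autoImplicit false

namespace Cfsg.Agent.Helper28.F22L

theorem lb3_0 : Cfsg.Agent.Helper28.ptChunk (Cfsg.Agent.Helper28.lbPt Cfsg.Agent.Helper28.C1687.T 3510 W3 ov3 op3 otp3 otw3) 1680 256 0 = true := by decide +kernel

theorem lb3_1 : Cfsg.Agent.Helper28.ptChunk (Cfsg.Agent.Helper28.lbPt Cfsg.Agent.Helper28.C1687.T 3510 W3 ov3 op3 otp3 otw3) 1680 256 1 = true := by decide +kernel

theorem lb3_2 : Cfsg.Agent.Helper28.ptChunk (Cfsg.Agent.Helper28.lbPt Cfsg.Agent.Helper28.C1687.T 3510 W3 ov3 op3 otp3 otw3) 1680 256 2 = true := by decide +kernel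

theorem lb3_3 : Cfsg.Agent.Helper28.ptChunk (Cfsg.Agent.Helper28.lbPt Cfsg.Agent.Helper28.C1687.T 3510 W3 ov3 op3 otp3 otw3) 1680 256 3 = true := by decide +kernel

theorem lb3_4 : Cfsg.Agent.Helper28.ptChunk (Cfsg.Agent.Helper28.lbPt Cfsg.Agent.Helper28.C1687.T 3510 W3 ov3 op3 otp3 otw3) 1680 256 4 = true := by decide +kernel

theorem lb3_5 : Cfsg.Agent.Helper28.ptChunk (Cfsg.Agent.Helper28.lbPt Cfsg.Agent.Helper28.C1687.T 3510 W3 ov3 op3 otp3 otw3) 1680 256 5 = true := by decide +kernel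

theorem lb3_6 : Cfsg.Agent.Helper28.ptChunk (Cfsg.Agent.Helper28.lbPt Cfsg.Agent.Helper28.C1687.T 3510 W3 ov3 op3 otp3 otw3) 1680 256 6 = true := by decide +kernel

end Cfsg.Agent.Helper28.F22L
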