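import Cfsg.Agent.Helper28.C1687.Cert
import Cfsg.Agent.Helper28.F22L.Lb2_0
import Cfsg.Agent.Helper28.F22L.Lb2_1
import Cfsg.Agent.Helper28.F22L.Lb3_0
import Cfsg.Agent.Helper28.F22L.Lb4_0
import Cfsg.Agent.Helper28.F22L.Lb5_0
import Cfsg.Agent.Helper28.F22L.Eq_aw_0

set_option autoImplicit false

namespace Cfsg.Agent.Helper28.F22L

theorem lb2_all : ∀ t, t < 2816 → Cfsg.Agent.Helper28.lbPt Cfsg.Agent.Helper28.C1687.T 3510 W2 ov2 op2 otp2 otw2 t = true :=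
  Cfsg.Agent.Helper28.pts_of_chunks _ 2816 256 11 (by decide) (by decide)
    (Cfsg.Agent.Helper28.allLt_succ _ 10 (Cfsg.Agent.Helper28.allLt_succ _ 9 (Cfsg.Agent.Helper28.allLt_succ _ 8 (Cfsg.Agent.Helper28.allLt_succ _ 7 (Cfsg.Agent.Helper28.allLt_succ _ 6 (Cfsg.Agent.Helper28.allLt_succ _ 5 (Cfsg.Agent.Helper28.allLt_succ _ 4 (Cfsg.Agent.Helper28.allLt_succ _ 3 (Cfsg.Agent.Helper28.allLt_succ _ 2 (Cfsg.Agent.Helper28.allLt_succ _ 1 (Cfsg.Agent.Helper28.allLt_succ _ 0 (Cfsg.Agent.Helper28.allLt_zero _) lb2_0) lb2_1) lb2_2) lb2_3) lb2_4) lb2_5) lb2_6) lb2_7) lb2_8) lb2_9) lb2_10)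

theorem fix2 : Cfsg.Agent.Helper28.fixChk Cfsg.Agent.Helper28.C1687.T 9 W2 [0] = true := by decide +kernel

theorem lb3_all : ∀ t, t < 1680 → Cfsg.Agent.Helper28.lbPt Cfsg.Agent.Helper28.C1687.T 3510 W3 ov3 op3 otp3 otw3 t = true :=
  Cfsg.Agent.Helper28.pts_of_chunks _ 1680 256 7 (by decide) (by decide)
    (Cfsg.Agent.Helper28.allLt_succ _ 6 (Cfsg.Agent.Helper28.allLt_succ _ 5 (Cfsg.Agent.Helper28.allLt_succ _ 4 (Cfsg.Agent.Helper28.allLt_succ _ 3 (Cfsg.Agent.Helper28.allLt_succ _ 2 (Cfsg.Agent.Helper28.allLt_succ _ 1 (Cfsg.Agent.Helper28.allLt_succ _ 0 (Cfsg.Agent.Helper28.allLt_zero _) lb3_0) lb3_1) lb3_2) lb3_3) lb3_4) lb3_5) lb3_6)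

theorem fix3 : Cfsg.Agent.Helper28.fixChk Cfsg.Agent.Helper28.C1687.T 9 W3 [ov2 0, 0] = true := by decide +kernel

theorem lb4_all : ∀ t, t < 243 → Cfsg.Agent.Helper28.lbPt Cfsg.Agent.Helper28.C1687.T 3510 W4 ov4 op4 otp4 otw4 t = true :=
  Cfsg.Agent.Helper28.pts_of_chunks _ 243 256 1 (by decide) (by decide)
    (Cfsg.Agent.Helper28.allLt_succ _ 0 (Cfsg.Agent.Helper28.allLt_zero _) lb4_0)

theorem fix4 : Cfsg.Agent.Helper28.fixChk Cfsg.Agent.Helper28.C1687.T 9 W4 [ov3 0, ov2 0, 0] = true := by decide +kernel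

theorem lb5_all : ∀ t, t < 16 → Cfsg.Agent.Helper28.lbPt Cfsg.Agent.Helper28.C1687.T 3510 W5 ov5 op5 otp5 otw5 t = true :=
  Cfsg.Agent.Helper28.pts_of_chunks _ 16 256 1 (by decide) (by decide)
    (Cfsg.Agent.Helper28.allLt_succ _ 0 (Cfsg.Agent.Helper28.allLt_zero _) lb5_0)

theorem fix5 : Cfsg.Agent.Helper28.fixChk Cfsg.Agent.Helper28.C1687.T 9 W5 [ov4 0, ov3 0, ov2 0, 0] = true := by decide +kernel

theorem eq_aw_all : ∀ i, i < 3510 → Cfsg.Agent.Helper28.eqPt Cfsg.Agent.Helper28.C1687.T aw_l aw_r i = true :=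
  Cfsg.Agent.Helper28.pts_of_chunks _ 3510 512 7 (by decide) (by decide)
    (Cfsg.Agent.Helper28.allLt_succ _ 6 (Cfsg.Agent.Helper28.allLt_succ _ 5 (Cfsg.Agent.Helper28.allLt_succ _ 4 (Cfsg.Agent.Helper28.allLt_succ _ 3 (Cfsg.Agent.Helper28.allLt_succ _ 2 (Cfsg.Agent.Helper28.allLt_succ _ 1 (Cfsg.Agent.Helper28.allLt_succ _ 0 (Cfsg.Agent.Helper28.allLt_zero _) eq_aw_0) eq_aw_1) eq_aw_2) eq_aw_3) eq_aw_4) eq_aw_5) eq_aw_6)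

theorem eq_aw_let : (∀ a ∈ aw_l, a < 9) ∧ (∀ a ∈ aw_r, a < 9) := by decide +kernel

/-- the stabiliser chain bounds the order from below -/
theorem lb_chain [Finite Cfsg.Spor.Fi22] :
    3510 * 2816 * 1680 * 243 * 16 * Nat.card (Cfsg.Agent.Helper28.fixSub Cfsg.Agent.Helper28.C1687.cert.perm [ov5 0, ov4 0, ov3 0, ov2 0, 0]) ≤ Nat.card Cfsg.Spor.Fi22 :=
  Cfsg.Agent.Helper28.chain_mul (Cfsg.Agent.Helper28.chain_mul (Cfsg.Agent.Helper28.chain_mul (Cfsg.Agent.Helper28.chain_mul (Cfsg.Agent.Helper28.C1687.cert.lb_top) (Cfsg.Agent.Helper28.C1687.cert.lb_level [0] W2 2816 ov2 op2 otp2 otw2 fix2 lb2_all)) (Cfsg.Agent.Helper28.C1687.cert.lb_level [ov2 0, 0] W3 1680 ov3 op3 otp3 otw3 fix3 lb3_all)) (Cfsg.Agent.Helper28.C1687.cert.lb_level [ov3 0, ov2 0, 0] W4 243 ov4 op4 otp4 otw4 fix4 lb4_all)) (Cfsg.Agent.Helper28.C1687.cert.lb_level [ov4 0, ov3 0,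 ov2 0, 0] W5 16 ov5 op5 otp5 otw5 fix5 lb5_all)

end Cfsg.Agent.Helper28.F22L
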